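import Groth.Agent.LinTopLib.Group
import Mathlib.Topology.Algebra.UniformMulAction
import Mathlib.Topology.Algebra.Module.Basic
import Mathlib.Topology.Algebra.InfiniteSum.Module
import Mathlib.RingTheory.Finiteness.Ideal
import Mathlib.RingTheory.Finiteness.Basic
import Mathlib.RingTheory.Ideal.Maps

/-!
# Completion of a module with an open adic submodule
-/

set_option autoImplicit false

open Filter Topology UniformSpace Pointwise

namespace Groth.Agent.LinTopLib

universe u v

variable {R : Type u} [CommRing R] {M : Type v} [AddCommGroup M] [Module R M]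

theorem exists_sum_of_mem_span_smul {r : ℕ} (g : Fin r → R) (N : Submodule R M) {x : M}
    (hx : x ∈ (Ideal.span (Set.range g)) • N) :
    ∃ m : Fin r → M, (∀ j, m j ∈ N) ∧ ∑ j, g j • m j = x := by
  refine Submodule.smul_induction_on hx (fun a ha y hy => ?_) (fun y z hy hz => ?_)
  · obtain ⟨c, rfl⟩ := (Ideal.mem_span_range_iff_exists_fun).1 ha
    exact ⟨fun j => c j • y, fun j => N.smul_mem _ hy, by
      rw [Finset.sum_smul]
      exact Finset.sum_congr rfl fun j _ => by rw [smul_smul, mul_comm]⟩
  · obtain ⟨m, hm, rfl⟩ := hy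
    obtain ⟨m', hm', rfl⟩ := hz
    exact ⟨m + m', fun j => N.add_mem (hm j) (hm' j), by simp [smul_add, Finset.sum_add_distrib]⟩

variable [UniformSpace M] [IsUniformAddGroup M] [UniformContinuousConstSMul R M]

/-- The closure of the image of a submodule in the completion. -/
noncomputable def closureCoe (N : Submodule R M) : Submodule R (Completion M) where
  carrier := closure (((↑) : M → Completion M) '' (N : Set M))
  add_mem' := fun ha hb => map_mem_closure₂ continuous_add ha hb
    fun _ ⟨x, hx, e⟩ _ ⟨y, hy, e'⟩ => ⟨x + y, N.add_mem hx hy, by rw [Completion.coe_add, e, e']⟩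
  zero_mem' := subset_closure ⟨0, N.zero_mem, Completion.coe_zero⟩
  smul_mem' := fun c _ hx => map_mem_closure (continuous_const_smul c) hx
    fun _ ⟨x, hx, e⟩ => ⟨c • x, N.smul_mem c hx, by rw [Completion.coe_smul, e]⟩

theorem coe_mem_closureCoe {N : Submodule R M} {x : M} (hx : x ∈ N) :
    (x : Completion M) ∈ closureCoe N :=
  subset_closure ⟨x, hx, rfl⟩

theorem mem_of_coe_mem_closureCoe {N : Submodule R M} (hN : IsOpen (N : Set M)) {x : M}
    (hx : (x : Completion M) ∈ closureCoe N) : x ∈ N := by
  have h : x ∈ closure (N : Set M) := by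
    rw [(Completion.isUniformInducing_coe M).isInducing.closure_eq_preimage_closure_image]
    exact hx
  exact (AddSubgroup.isClosed_of_isOpen N.toAddSubgroup hN).closure_subset h

theorem isOpen_closureCoe {N : Submodule R M} (hN : IsOpen (N : Set M)) :
    IsOpen (closureCoe N : Set (Completion M)) := by
  refine AddSubgroup.isOpen_of_mem_nhds (closureCoe N).toAddSubgroup (g := 0) ?_
  change closure _ ∈ 𝓝 (0 : Completion M)
  rw [← Completion.coe_zero]
  exact Completion.isDenseInducing_coe.closure_image_mem_nhds (hN.mem_nhds N.zero_mem)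

theorem exists_sub_mem_closureCoe {N : Submodule R M} (hN : IsOpen (N : Set M)) (y : Completion M) :
    ∃ m : M, y - (m : Completion M) ∈ closureCoe N := by
  obtain ⟨_, hm, m, rfl⟩ := mem_closure_iff_nhds.1 (Completion.denseRange_coe y) _
    ((Continuous.tendsto' (by fun_prop) y (0 : Completion M) (sub_self y) :
      Tendsto (fun z : Completion M => y - z) (𝓝 y) (𝓝 0))
        ((isOpen_closureCoe hN).mem_nhds (zero_mem _)))
  exact ⟨m, hm⟩

variable {I : Ideal R} {M' : Submodule R M}
  (hopen : ∀ n : ℕ, IsOpen ((I ^ n • M' : Submodule R M) : Set M))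
  (hbasis : ∀ U ∈ 𝓝 (0 : M), ∃ n : ℕ, ((I ^ n • M' : Submodule R M) : Set M) ⊆ U)

include hopen hbasis in
theorem pow_smul_closureCoe (hI : I.FG) (n : ℕ) :
    I ^ n • closureCoe M' = closureCoe (I ^ n • M') := by
  refine le_antisymm (Submodule.smul_le.2 fun a ha y hy => ?_) fun y hy => ?_
  · refine map_mem_closure (continuous_const_smul a) hy ?_
    rintro _ ⟨x, hx, rfl⟩
    exact ⟨a • x, Submodule.smul_mem_smul ha hx, Completion.coe_smul a x⟩
  haveI hna : NonarchimedeanAddGroup M := ⟨fun U hU => by
    obtain ⟨k, hk⟩ := hbasis U hU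
    exact ⟨⟨(I ^ k • M').toAddSubgroup, hopen k⟩, hk⟩⟩
  have hmono : ∀ j k : ℕ, j ≤ k → I ^ k • M' ≤ I ^ j • M' := fun j k h =>
    Submodule.smul_mono (Ideal.pow_le_pow_right h) le_rfl
  obtain ⟨r, g, hg⟩ := Submodule.fg_iff_exists_fin_generating_family.1 (Submodule.FG.pow hI n)
  have step : ∀ (k : ℕ) (c : Completion M), c ∈ closureCoe (I ^ (n + k) • M') →
      ∃ a ∈ I ^ (n + k) • M', c - (a : Completion M) ∈ closureCoe (I ^ (n + (k + 1)) • M') := by
    intro k c hc
    obtain ⟨a, ha⟩ := exists_sub_mem_closureCoe (hopen (n + (k + 1))) c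
    refine ⟨a, mem_of_coe_mem_closureCoe (hopen (n + k)) ?_, ha⟩
    have hle : closureCoe (I ^ (n + (k + 1)) • M') ≤ closureCoe (I ^ (n + k) • M') := fun z hz =>
      closure_mono (Set.image_mono (hmono (n + k) (n + (k + 1)) (by omega))) hz
    simpa using sub_mem hc (hle ha)
  choose f hf hf' using step
  let c : (k : ℕ) → {c : Completion M // c ∈ closureCoe (I ^ (n + k) • M')} := fun k =>
    Nat.rec ⟨y, hy⟩ (fun k p => ⟨p.1 - (f k p.1 p.2 : Completion M), hf' k p.1 p.2⟩) k
  let a : ℕ → M := fun k => f k (c k).1 (c k).2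
  have ha : ∀ k, a k ∈ I ^ (n + k) • M' := fun k => hf k _ _
  have hsum : ∀ k, ∑ i ∈ Finset.range k, (a i : Completion M) = y - (c k).1 := by
    intro k
    induction k with
    | zero => simp [c]
    | succ k ih =>
      rw [Finset.sum_range_succ, ih]
      change _ = y - ((c k).1 - (a k : Completion M))
      abel
  have hdec : ∀ k, ∃ b : Fin r → M, (∀ j, b j ∈ I ^ k • M') ∧ ∑ j, g j • b j = a k := fun k => by
    refine exists_sum_of_mem_span_smul g _ ?_
    have := ha k
    rwa [pow_add, ← smul_eq_mul (I ^ n), Submodule.smul_assoc, ← hg] at this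
  choose b hb hba using hdec
  have hsmall : ∀ W ∈ 𝓝 (0 : Completion M), ∀ᶠ k in atTop,
      (closureCoe (I ^ k • M') : Set (Completion M)) ⊆ W := by
    intro W hW
    obtain ⟨W', hW', hW'c, hW'W⟩ := exists_mem_nhds_isClosed_subset hW
    obtain ⟨N, hN⟩ := hbasis _ ((Completion.continuous_coe M).continuousAt.preimage_mem_nhds
      (x := (0 : M)) (t := W') (by rwa [Completion.coe_zero]))
    filter_upwards [eventually_ge_atTop N] with k hk
    exact (closure_minimal (Set.image_subset_iff.2
      (fun x hx => hN (hmono N k hk hx))) hW'c).trans hW'W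
  have hsm : ∀ j, Summable fun k => (b k j : Completion M) := fun j => by
    refine NonarchimedeanAddGroup.summable_of_tendsto_cofinite_zero ?_
    rw [Nat.cofinite_eq_atTop]
    intro W hW
    change ∀ᶠ k in atTop, (b k j : Completion M) ∈ W
    filter_upwards [hsmall W hW] with k hk using hk (coe_mem_closureCoe (hb k j))
  have hmem : ∑ j, g j • (∑' k, (b k j : Completion M)) ∈ I ^ n • closureCoe M' := by
    refine sum_mem fun j _ => Submodule.smul_mem_smul (hg ▸ Submodule.subset_span ⟨j, rfl⟩) ?_
    exact (isClosed_closure (s := ((↑) : M → Completion M) '' (M' : Set M))).mem_of_tendsto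
      (hsm j).hasSum.tendsto_sum_nat
      (Eventually.of_forall fun N => Submodule.sum_mem (closureCoe M')
        fun k _ => coe_mem_closureCoe (Submodule.smul_le_right (hb k j)))
  have hs : HasSum (fun k => (a k : Completion M)) (∑ j, g j • ∑' k, (b k j : Completion M)) := by
    have h := hasSum_sum (s := Finset.univ) fun j (_ : j ∈ Finset.univ) =>
      (hsm j).hasSum.const_smul (g j)
    convert h using 1
    funext k
    rw [← hba k]
    change Completion.toCompl _ = _
    rw [map_sum]
    exact Finset.sum_congr rfl fun j _ => Completion.coe_smul _ _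
  have hc0 : Tendsto (fun k => (c k).1) atTop (𝓝 0) := by
    intro W hW
    change ∀ᶠ k in atTop, (c k).1 ∈ W
    filter_upwards [hsmall W hW] with k hk
    exact hk (closure_mono (Set.image_mono (hmono k (n + k) (by omega))) (c k).2)
  have h1 := hs.tendsto_sum_nat
  simp only [hsum] at h1
  have h2 : Tendsto (fun k => y - (c k).1) atTop (𝓝 y) := by simpa using hc0.const_sub y
  rwa [tendsto_nhds_unique h2 h1]

end Groth.Agent.LinTopLib
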