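import Groth.Prelude.Def_W4stk3formalspacesTaut
import Mathlib.Topology.Algebra.OpenSubgroup
import Mathlib.RingTheory.Ideal.Quotient.Operations
import Mathlib.RingTheory.Nilpotent.Lemmas

/-!
# Elementary facts on linearly topologized rings and modules
-/

set_option autoImplicit false

open Filter Topology

namespace Groth.Agent.LinTopLib

universe u v w

section Module

variable {R : Type u} [Ring R] {M : Type v} [AddCommGroup M] [Module R M] [TopologicalSpace M]
  [IsTopologicalAddGroup M]

theorem sub_mem_nhds_iff {s : Set M} {x : M} :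
    {y | y - x ∈ s} ∈ 𝓝 x ↔ s ∈ 𝓝 (0 : M) := by
  constructor
  · intro h
    have hc : Tendsto (fun z : M => z + x) (𝓝 0) (𝓝 x) := by
      exact Continuous.tendsto' (by fun_prop) _ _ (by simp)
    filter_upwards [hc h] with z hz
    simpa using hz
  · intro h
    have hc : Tendsto (fun y : M => y - x) (𝓝 x) (𝓝 0) := by
      exact Continuous.tendsto' (by fun_prop) _ _ (by simp)
    exact hc h

/-- The closure of a submodule is the intersection of its sums with a basis of submodules. -/
theorem closure_eq_iInter {ι : Sort w} {p : ι → Prop} (B : ι → Submodule R M)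
    (hB : (𝓝 (0 : M)).HasBasis p fun i => (B i : Set M)) (N : Submodule R M) :
    closure (N : Set M) = ⋂ (i) (_ : p i), ((N ⊔ B i : Submodule R M) : Set M) := by
  ext x
  simp only [Set.mem_iInter, SetLike.mem_coe]
  constructor
  · intro hx i hi
    obtain ⟨y, hy, hyN⟩ := mem_closure_iff_nhds.1 hx _ ((sub_mem_nhds_iff (x := x)).2 (hB.mem_of_mem hi))
    have : y - (y - x) ∈ N ⊔ B i :=
      Submodule.sub_mem _ (Submodule.mem_sup_left hyN) (Submodule.mem_sup_right hy)
    simpa using this
  · intro hx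
    refine mem_closure_iff_nhds.2 fun U hU => ?_
    have : {z | z + x ∈ U} ∈ 𝓝 (0 : M) := by
      have hc : Tendsto (fun z : M => z + x) (𝓝 0) (𝓝 x) := by
        exact Continuous.tendsto' (by fun_prop) _ _ (by simp)
      exact hc hU
    obtain ⟨i, hi, hiU⟩ := hB.mem_iff.1 this
    obtain ⟨n, hn, b, hb, rfl⟩ := Submodule.mem_sup.1 (hx i hi)
    exact ⟨n, by simpa using hiU ((B i).neg_mem hb), hn⟩

end Module

section Ring

variable {A : Type u} [CommRing A] [TopologicalSpace A] [IsTopologicalRing A]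

theorem isOpen_of_le {I J : Ideal A} (h : I ≤ J) (hI : IsOpen (I : Set A)) : IsOpen (J : Set A) :=
  Submodule.isOpen_mono h hI

theorem isClosed_of_isOpen {I : Ideal A} (hI : IsOpen (I : Set A)) : IsClosed (I : Set A) :=
  AddSubgroup.isClosed_of_isOpen I.toAddSubgroup hI

theorem mem_nhds_zero {I : Ideal A} (hI : IsOpen (I : Set A)) : (I : Set A) ∈ 𝓝 (0 : A) :=
  hI.mem_nhds I.zero_mem

variable [IsLinearTopology A A]

theorem exists_open_ideal {U : Set A} (hU : U ∈ 𝓝 (0 : A)) :
    ∃ J : Ideal A, IsOpen (J : Set A) ∧ (J : Set A) ⊆ U := by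
  obtain ⟨J, hJ, hJU⟩ := (IsLinearTopology.hasBasis_open_ideal (R := A)).mem_iff.1 hU
  exact ⟨J, hJ, hJU⟩

theorem isTopologicallyNilpotent_iff (a : A) :
    IsTopologicallyNilpotent a ↔ ∀ J : Ideal A, IsOpen (J : Set A) → ∃ n : ℕ, a ^ n ∈ J := by
  refine ⟨fun h J hJ => h.exists_pow_mem_of_mem_nhds (mem_nhds_zero hJ), fun h => ?_⟩
  intro U hU
  obtain ⟨J, hJ, hJU⟩ := exists_open_ideal hU
  obtain ⟨n, hn⟩ := h J hJ
  refine mem_map.2 (mem_of_superset (Ici_mem_atTop n) fun m hm => hJU ?_)
  change a ^ m ∈ J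
  obtain ⟨k, rfl⟩ := Nat.exists_eq_add_of_le (hm : n ≤ m)
  rw [pow_add]
  exact J.mul_mem_right _ hn

theorem mem_closure_ideal_iff (N : Ideal A) (x : A) :
    x ∈ closure (N : Set A) ↔ ∀ J : Ideal A, IsOpen (J : Set A) → x ∈ N ⊔ J := by
  rw [closure_eq_iInter (fun J : Ideal A => J) IsLinearTopology.hasBasis_open_ideal N]
  simp

theorem isClosed_topologicalNilradical : IsClosed ((topologicalNilradical A : Ideal A) : Set A) := by
  refine isClosed_of_closure_subset fun g hg => ?_
  refine (isTopologicallyNilpotent_iff g).2 fun J hJ => ?_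
  obtain ⟨t, ht, j, hj, rfl⟩ := Submodule.mem_sup.1 ((mem_closure_ideal_iff _ g).1 hg J hJ)
  obtain ⟨n, hn⟩ := (isTopologicallyNilpotent_iff t).1
    (IsTopologicallyNilpotent.mem_topologicalNilradical_iff.1 ht) J hJ
  refine ⟨n, ?_⟩
  rw [← Ideal.Quotient.eq_zero_iff_mem] at hn ⊢
  rw [map_pow, map_add, (Ideal.Quotient.eq_zero_iff_mem).2 hj, add_zero, ← map_pow, hn]

theorem topNilp_of_mem_ideal {I : Ideal A} (hI : LinTop.IsIdealOfDefinition A I) {x : A}
    {n : ℕ} (hx : x ^ n ∈ I) : IsTopologicallyNilpotent x := by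
  refine (isTopologicallyNilpotent_iff x).2 fun J hJ => ?_
  obtain ⟨m, _, hm⟩ := hI.2 _ (mem_nhds_zero hJ)
  exact ⟨n * m, by rw [pow_mul]; exact hm (Ideal.pow_mem_pow hx m)⟩

theorem isWeakIdealOfDefinition_of_isIdealOfDefinition {I : Ideal A}
    (hI : LinTop.IsIdealOfDefinition A I) : LinTop.IsWeakIdealOfDefinition A I :=
  ⟨hI.1, fun f hf => topNilp_of_mem_ideal hI (n := 1) (by simpa using hf)⟩

theorem isTopologicallyNilpotent_iff_pow_mem {I : Ideal A} (hI : LinTop.IsIdealOfDefinition A I)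
    (x : A) : IsTopologicallyNilpotent x ↔ ∃ n : ℕ, 0 < n ∧ x ^ n ∈ I := by
  refine ⟨fun h => ?_, fun ⟨n, _, hn⟩ => topNilp_of_mem_ideal hI hn⟩
  obtain ⟨n, hn⟩ := (isTopologicallyNilpotent_iff x).1 h I hI.1
  exact ⟨n + 1, n.succ_pos, by rw [pow_succ]; exact I.mul_mem_right _ hn⟩

omit [IsTopologicalRing A] [IsLinearTopology A A] [TopologicalSpace A] in
theorem sup_pow_le (I I' : Ideal A) (n : ℕ) : (I ⊔ I') ^ n ≤ I ⊔ I' ^ n := by
  induction n with
  | zero => simp
  | succ n ih =>
    rw [pow_succ, pow_succ]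
    refine (Ideal.mul_mono_left ih).trans ?_
    rw [Ideal.sup_mul, Ideal.mul_sup, Ideal.mul_sup]
    exact sup_le
      (sup_le ((Ideal.mul_le.2 fun a ha b _ => I.mul_mem_right b ha).trans le_sup_left)
        ((Ideal.mul_le.2 fun a ha b _ => I.mul_mem_right b ha).trans le_sup_left))
      (sup_le ((Ideal.mul_le.2 fun a _ b hb => I.mul_mem_left a hb).trans le_sup_left) le_sup_right)

/-- An open ideal with a power inside an ideal of definition is an ideal of definition. -/
theorem isIdealOfDefinition_of_pow_le {I J : Ideal A} (hI : LinTop.IsIdealOfDefinition A I)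
    (hJ : IsOpen (J : Set A)) {n : ℕ} (hn : 0 < n) (hle : J ^ n ≤ I) :
    LinTop.IsIdealOfDefinition A J := by
  refine ⟨hJ, fun U hU => ?_⟩
  obtain ⟨m, hm, hmU⟩ := hI.2 U hU
  refine ⟨n * m, Nat.mul_pos hn hm, ?_⟩
  rw [pow_mul]
  exact fun x hx => hmU (Ideal.pow_right_mono hle m hx)

theorem exists_idealOfDefinition_ge {I : Ideal A} (hI : LinTop.IsIdealOfDefinition A I)
    {I' : Ideal A} {n : ℕ} (hn : 0 < n) (hle : I' ^ n ≤ I) :
    LinTop.IsIdealOfDefinition A (I ⊔ I') :=
  isIdealOfDefinition_of_pow_le hI (isOpen_of_le le_sup_left hI.1) hn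
    ((sup_pow_le I I' n).trans (sup_le le_rfl hle))

omit [IsLinearTopology A A] in
theorem closure_mul_le (I J : Ideal A) : I.closure * J.closure ≤ (I * J).closure :=
  Ideal.mul_le.2 fun _ ha _ hb =>
    map_mem_closure₂ continuous_mul ha hb fun _ hx _ hy => Ideal.mul_mem_mul hx hy

omit [IsLinearTopology A A] in
theorem closure_pow_le (I : Ideal A) (n : ℕ) : I.closure ^ n ≤ (I ^ n).closure := by
  induction n with
  | zero => rw [pow_zero, pow_zero]; exact fun x hx => subset_closure hx
  | succ n ih =>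
    rw [pow_succ, pow_succ]
    exact (Ideal.mul_mono_left ih).trans (closure_mul_le _ _)

omit [IsLinearTopology A A] in
theorem le_ideal_closure (I : Ideal A) : I ≤ I.closure := fun _ hx => subset_closure hx

omit [IsLinearTopology A A] in
theorem ideal_closure_mono {I J : Ideal A} (h : I ≤ J) : I.closure ≤ J.closure :=
  fun _ hx => closure_mono (SetLike.coe_subset_coe.2 h) hx

omit [IsLinearTopology A A] in
theorem ideal_closure_le {I J : Ideal A} (h : I ≤ J) (hJ : IsOpen (J : Set A)) : I.closure ≤ J :=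
  fun _ hx => closure_minimal (SetLike.coe_subset_coe.2 h) (isClosed_of_isOpen hJ) hx

end Ring

theorem isLinearTopology_of_isPreadic {A : Type u} [CommRing A] [TopologicalSpace A]
    [IsTopologicalRing A] (hA : LinTop.IsPreadic A) : IsLinearTopology A A := by
  obtain ⟨I, hI⟩ := hA
  obtain ⟨ho, hb⟩ := isAdic_iff.1 hI
  refine IsLinearTopology.mk_of_hasBasis' (ι := ℕ) (S := Ideal A) A (p := fun _ => True)
    (s := fun n => I ^ n) ⟨fun U => ⟨fun hU => ?_, fun ⟨n, _, hn⟩ => ?_⟩⟩
    (fun s r m hm => s.mul_mem_left r hm)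
  · obtain ⟨n, hn⟩ := hb U hU
    exact ⟨n, trivial, hn⟩
  · exact Filter.mem_of_superset (mem_nhds_zero (ho n)) hn

theorem isIdealOfDefinition_of_isAdic {A : Type u} [CommRing A] [TopologicalSpace A]
    [IsTopologicalRing A] {I : Ideal A} (hI : IsAdic I) : LinTop.IsIdealOfDefinition A I := by
  obtain ⟨ho, hb⟩ := isAdic_iff.1 hI
  refine ⟨by simpa using ho 1, fun U hU => ?_⟩
  obtain ⟨n, hn⟩ := hb U hU
  exact ⟨n + 1, n.succ_pos, fun x hx => hn (Ideal.pow_le_pow_right n.le_succ hx)⟩

section Hom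

variable {A : Type u} [CommRing A] [TopologicalSpace A] [IsTopologicalRing A]
  {B : Type v} [CommRing B] [TopologicalSpace B] [IsTopologicalRing B] [IsLinearTopology B B]

/-- The third condition of tautness is automatic. -/
theorem isTaut_iff (φ : A →+* B) :
    LinTop.IsTaut φ ↔ Continuous φ ∧
      ∀ I : Ideal A, IsOpen (I : Set A) → IsOpen (closure ((I.map φ : Ideal B) : Set B)) := by
  refine ⟨fun h => ⟨h.1, h.2.1⟩, fun h => ⟨h.1, h.2, fun U hU => ?_⟩⟩
  obtain ⟨W, hW, hWU⟩ := exists_open_ideal hU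
  refine ⟨W.comap φ, hW.preimage h.1, fun x hx => hWU ?_⟩
  exact ideal_closure_le Ideal.map_comap_le hW hx

theorem topNilp_of_mem_closure_map (φ : A →+* B) (hφ : Continuous φ) {I : Ideal A}
    (hI : ∀ f ∈ I, IsTopologicallyNilpotent f) {g : B} (hg : g ∈ (I.map φ).closure) :
    IsTopologicallyNilpotent g := by
  have h : I.map φ ≤ topologicalNilradical B := Ideal.map_le_iff_le_comap.2 fun f hf =>
    IsTopologicallyNilpotent.mem_topologicalNilradical_iff.2 ((hI f hf).map hφ)
  exact IsTopologicallyNilpotent.mem_topologicalNilradical_iff.1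
    (closure_minimal (SetLike.coe_subset_coe.2 h) isClosed_topologicalNilradical hg)

theorem isIdealOfDefinition_closure_map {φ : A →+* B} (hφ : LinTop.IsTaut φ) {I : Ideal A}
    (hI : LinTop.IsIdealOfDefinition A I) : LinTop.IsIdealOfDefinition B (I.map φ).closure := by
  refine ⟨hφ.2.1 I hI.1, fun U hU => ?_⟩
  obtain ⟨W, hW, hWU⟩ := exists_open_ideal hU
  obtain ⟨n, hn, hnW⟩ := hI.2 _ ((hW.preimage hφ.1).mem_nhds (by simp))
  refine ⟨n, hn, fun x hx => hWU (ideal_closure_le ?_ hW (closure_pow_le _ n hx))⟩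
  rw [← Ideal.map_pow, Ideal.map_le_iff_le_comap]
  exact hnW

omit [IsTopologicalRing A] [IsLinearTopology B B] in
/-- For a map with dense range, the closure of the image of an ideal is the closure of the ideal
it generates. -/
theorem closure_image_eq_of_denseRange (φ : A →+* B) (hd : DenseRange φ) (I : Ideal A) :
    closure (φ '' I) = closure ((I.map φ : Ideal B) : Set B) := by
  refine subset_antisymm (closure_mono fun _ ⟨x, hx, h⟩ => h ▸ Ideal.mem_map_of_mem φ hx) ?_
  let K : Submodule B B :=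
    { carrier := closure (φ '' I)
      add_mem' := fun ha hb => map_mem_closure₂ continuous_add ha hb
        fun _ ⟨x, hx, e⟩ _ ⟨y, hy, e'⟩ => ⟨x + y, I.add_mem hx hy, by rw [map_add, e, e']⟩
      zero_mem' := subset_closure ⟨0, I.zero_mem, map_zero φ⟩
      smul_mem' := fun c _ hx => by
        refine map_mem_closure₂ continuous_mul (hd c) hx ?_
        rintro _ ⟨r, rfl⟩ _ ⟨y, hy, rfl⟩
        exact ⟨r * y, I.mul_mem_left r hy, map_mul φ r y⟩ }
  have : I.map φ ≤ (K : Ideal B) :=
    Ideal.map_le_iff_le_comap.2 fun x hx => subset_closure ⟨x, hx, rfl⟩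
  exact closure_minimal (SetLike.coe_subset_coe.2 this) isClosed_closure

/-- In the descent situation an open ideal is recovered from the closure of its image. -/
theorem comap_closure_map {φ : A →+* B} (hφ : LinTop.IsTautFFlat φ) {I : Ideal A}
    (hI : IsOpen (I : Set A)) : (I.map φ).closure.comap φ = I := by
  refine le_antisymm ?_ (Ideal.le_comap_map.trans (Ideal.comap_mono (le_ideal_closure _)))
  intro x hx
  rw [← Ideal.Quotient.eq_zero_iff_mem]
  apply RingHom.FaithfullyFlat.injective (hφ.2 I hI)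
  rw [map_zero]
  change Ideal.quotientMap _ φ _ (Ideal.Quotient.mk I x) = 0
  rw [Ideal.quotientMap_mk, Ideal.Quotient.eq_zero_iff_mem]
  exact hx

/-- In the descent situation the closure of an ideal contains every preimage of an open ideal
lying in the closure of its image. -/
theorem comap_le_closure {φ : A →+* B} [IsLinearTopology A A] (hφ : LinTop.IsTautFFlat φ)
    (I : Ideal A) {L : Ideal B} (hL : L ≤ (I.map φ).closure) : L.comap φ ≤ I.closure := by
  intro x hx
  refine (mem_closure_ideal_iff I x).2 fun W hW => ?_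
  rw [← comap_closure_map hφ (isOpen_of_le le_sup_right hW)]
  exact ideal_closure_mono (Ideal.map_mono le_sup_left) (hL hx)

end Hom

end Groth.Agent.LinTopLib
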