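import Groth.Agent.LinTopLib.Basic
import Mathlib.Topology.Algebra.UniformRing

/-!
# Completions of linearly topologized rings
-/

set_option autoImplicit false

open Filter Topology UniformSpace

namespace Groth.Agent.LinTopLib

universe u

variable {A : Type u} [CommRing A] [UniformSpace A] [IsUniformAddGroup A] [IsTopologicalRing A]

theorem closure_coe_image_mem_nhds {s : Set A} (hs : s ∈ 𝓝 (0 : A)) :
    closure (((↑) : A → Completion A) '' s) ∈ 𝓝 (0 : Completion A) := by
  rw [← Completion.coe_zero]
  exact Completion.isDenseInducing_coe.closure_image_mem_nhds hs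

theorem closure_map_coe (I : Ideal A) :
    closure ((I.map (Completion.coeRingHom : A →+* Completion A) : Ideal (Completion A)) :
      Set (Completion A)) = closure (((↑) : A → Completion A) '' I) :=
  (closure_image_eq_of_denseRange (Completion.coeRingHom : A →+* Completion A)
    Completion.denseRange_coe I).symm

theorem exists_closure_coe_image_subset {U : Set (Completion A)} (hU : U ∈ 𝓝 (0 : Completion A)) :
    ∃ V ∈ 𝓝 (0 : A), ∀ s : Set A, s ⊆ V → closure (((↑) : A → Completion A) '' s) ⊆ U := by
  obtain ⟨W, hW, hWc, hWU⟩ := exists_mem_nhds_isClosed_subset hU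
  refine ⟨((↑) : A → Completion A) ⁻¹' W, ?_, fun s hs => ?_⟩
  · refine (Completion.continuous_coe A).continuousAt.preimage_mem_nhds ?_
    rwa [Completion.coe_zero]
  · exact (closure_minimal (Set.image_subset_iff.2 hs) hWc).trans hWU

theorem isOpen_closure_map_coe {I : Ideal A} (hI : closure (I : Set A) ∈ 𝓝 (0 : A)) :
    IsOpen (closure ((I.map (Completion.coeRingHom : A →+* Completion A) : Ideal (Completion A)) :
      Set (Completion A))) := by
  refine AddSubgroup.isOpen_of_mem_nhds
    (I.map (Completion.coeRingHom : A →+* Completion A)).closure.toAddSubgroup (g := 0) ?_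
  change closure _ ∈ 𝓝 (0 : Completion A)
  rw [closure_map_coe]
  refine mem_of_superset (closure_coe_image_mem_nhds hI) (closure_minimal ?_ isClosed_closure)
  exact image_closure_subset_closure_image (Completion.continuous_coe A)

theorem isLinearTopology_completion [IsLinearTopology A A] :
    IsLinearTopology (Completion A) (Completion A) := by
  refine IsLinearTopology.mk_of_hasBasis' (ι := Ideal A) (S := Ideal (Completion A)) (Completion A)
    (p := fun J => IsOpen (J : Set A))
    (s := fun J => (J.map (Completion.coeRingHom : A →+* Completion A)).closure)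
    ⟨fun U => ⟨fun hU => ?_, fun ⟨J, hJ, hJU⟩ => ?_⟩⟩ (fun s r m hm => s.mul_mem_left r hm)
  · obtain ⟨V, hV, hVU⟩ := exists_closure_coe_image_subset hU
    obtain ⟨J, hJ, hJV⟩ := exists_open_ideal hV
    refine ⟨J, hJ, ?_⟩
    change closure _ ⊆ U
    rw [closure_map_coe]
    exact hVU _ hJV
  · exact mem_of_superset ((isOpen_closure_map_coe (mem_of_superset (mem_nhds_zero hJ)
      subset_closure)).mem_nhds (subset_closure (Ideal.zero_mem _))) hJU

end Groth.Agent.LinTopLib
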