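import Groth.Agent.LinTopLib.Basic
import Mathlib.Topology.Algebra.IsUniformGroup.Basic
import Mathlib.Topology.Algebra.GroupCompletion
import Mathlib.Topology.Algebra.Nonarchimedean.Completion
import Mathlib.Topology.Algebra.InfiniteSum.Nonarchimedean
import Mathlib.Topology.Algebra.InfiniteSum.NatInt

/-!
# Successive approximation and exactness of completion for nonarchimedean groups
-/

set_option autoImplicit false

open Filter Topology UniformSpace

namespace Groth.Agent.LinTopLib

universe u v

theorem nonarchimedean_of_linear {R : Type u} [Ring R] {M : Type v} [AddCommGroup M] [Module R M]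
    [TopologicalSpace M] [IsTopologicalAddGroup M] [IsLinearTopology R M] :
    NonarchimedeanAddGroup M where
  is_nonarchimedean U hU := by
    obtain ⟨N, hN, hNU⟩ := (IsLinearTopology.hasBasis_open_submodule R).mem_iff.1 hU
    exact ⟨⟨N.toAddSubgroup, hN⟩, hNU⟩

variable {G : Type u} [AddCommGroup G] [UniformSpace G] [IsUniformAddGroup G]
  [NonarchimedeanAddGroup G]

/-- Successive approximation: if the image of every open subgroup is dense in a neighbourhood of
zero, then that closure is contained in the image. -/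
theorem closure_image_subset_image [CompleteSpace G] [T2Space G]
    (hc : (𝓝 (0 : G)).IsCountablyGenerated)
    {H : Type v} [AddCommGroup H] [TopologicalSpace H] [IsTopologicalAddGroup H] [T2Space H]
    (f : G →+ H) (hf : Continuous f)
    (hnhds : ∀ U : OpenAddSubgroup G, closure (f '' (U : Set G)) ∈ 𝓝 (0 : H))
    (U : OpenAddSubgroup G) : closure (f '' (U : Set G)) ⊆ f '' (U : Set G) := by
  intro b hb
  obtain ⟨V, hV⟩ := (𝓝 (0 : G)).exists_antitone_basis
  choose J hJV using fun n => NonarchimedeanAddGroup.is_nonarchimedean _ (hV.mem n)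
  obtain ⟨K, hK0, hKU, hKsmall⟩ : ∃ K : ℕ → OpenAddSubgroup G, K 0 = U ∧
      (∀ n, (K n : Set G) ⊆ U) ∧
      ∀ W ∈ 𝓝 (0 : G), ∀ᶠ n in atTop, (K n : Set G) ⊆ W := by
    refine ⟨fun n => Nat.rec U (fun m _ => U ⊓ J m) n, rfl, ?_, fun W hW => ?_⟩
    · rintro (_ | n)
      · exact subset_rfl
      · exact fun a ha => ha.1
    · obtain ⟨N, -, hN⟩ := hV.toHasBasis.mem_iff.1 hW
      filter_upwards [eventually_ge_atTop (N + 1)] with n hn
      obtain ⟨m, rfl⟩ : ∃ m, n = m + 1 := ⟨n - 1, by omega⟩
      exact fun a ha => hN (hV.antitone (by omega : N ≤ m) (hJV _ ha.2))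
  have step : ∀ (n : ℕ) (c : H), c ∈ closure (f '' (K n : Set G)) →
      ∃ a ∈ K n, c - f a ∈ closure (f '' (K (n + 1) : Set G)) := by
    intro n c hc'
    have : {y : H | c - y ∈ closure (f '' (K (n + 1) : Set G))} ∈ 𝓝 c :=
      (Continuous.tendsto' (by fun_prop) c (0 : H) (sub_self c) :
        Tendsto (fun y => c - y) (𝓝 c) (𝓝 0)) (hnhds (K (n + 1)))
    obtain ⟨_, hy, a, ha, rfl⟩ := mem_closure_iff_nhds.1 hc' _ this
    exact ⟨a, ha, hy⟩
  choose g hgK hg using step
  let c : (n : ℕ) → {c : H // c ∈ closure (f '' (K n : Set G))} := fun n =>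
    Nat.rec ⟨b, by rw [hK0]; exact hb⟩ (fun n p => ⟨p.1 - f (g n p.1 p.2), hg n p.1 p.2⟩) n
  let a : ℕ → G := fun n => g n (c n).1 (c n).2
  have haK : ∀ n, a n ∈ K n := fun n => hgK n _ _
  have hsum : ∀ n, f (∑ k ∈ Finset.range n, a k) = b - (c n).1 := by
    intro n
    induction n with
    | zero => simp [c]
    | succ n ih =>
      rw [Finset.sum_range_succ, map_add, ih]
      change _ = b - ((c n).1 - f (a n))
      abel
  have ha0 : Tendsto a atTop (𝓝 0) := fun W hW => by
    change ∀ᶠ n in atTop, a n ∈ W
    filter_upwards [hKsmall W hW] with n hn using hn (haK n)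
  obtain ⟨x, hx⟩ : Summable a :=
    NonarchimedeanAddGroup.summable_of_tendsto_cofinite_zero (by rwa [Nat.cofinite_eq_atTop])
  have hlim := hx.tendsto_sum_nat
  refine ⟨x, (OpenAddSubgroup.isClosed U).mem_of_tendsto hlim
    (Eventually.of_forall fun n => AddSubgroup.sum_mem U.toAddSubgroup fun k _ => hKU k (haK k)), ?_⟩
  have hc0 : Tendsto (fun n => (c n).1) atTop (𝓝 0) := by
    intro W hW
    obtain ⟨W', hW', hW'c, hW'W⟩ := exists_mem_nhds_isClosed_subset hW
    have hpre : f ⁻¹' W' ∈ 𝓝 (0 : G) := hf.continuousAt.preimage_mem_nhds (by rwa [map_zero])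
    change ∀ᶠ n in atTop, (c n).1 ∈ W
    filter_upwards [hKsmall _ hpre] with n hn
    exact hW'W (closure_minimal (Set.image_subset_iff.2 hn) hW'c (c n).2)
  refine tendsto_nhds_unique ((hf.tendsto x).comp hlim) ?_
  simpa [Function.comp_def, hsum] using (tendsto_const_nhds (x := b)).sub hc0

theorem surjective_isOpenMap [CompleteSpace G] [T2Space G]
    (hc : (𝓝 (0 : G)).IsCountablyGenerated)
    {H : Type v} [AddCommGroup H] [TopologicalSpace H] [IsTopologicalAddGroup H] [T2Space H]
    (f : G →+ H) (hf : Continuous f) (hd : DenseRange f)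
    (hnhds : ∀ U : OpenAddSubgroup G, closure (f '' (U : Set G)) ∈ 𝓝 (0 : H)) :
    Function.Surjective f ∧ IsOpenMap f := by
  refine ⟨fun b => ?_, IsOpenMap.of_nhds_le fun x W hW => ?_⟩
  · obtain ⟨a, -, ha⟩ := closure_image_subset_image hc f hf hnhds ⊤ (a := b) (by
      simpa using hd b)
    exact ⟨a, ha⟩
  · have hpre : (fun z => x + z) ⁻¹' (f ⁻¹' W) ∈ 𝓝 (0 : G) :=
      (Continuous.tendsto' (by fun_prop) (0 : G) x (add_zero x)) hW
    obtain ⟨U, hU⟩ := NonarchimedeanAddGroup.is_nonarchimedean _ hpre
    have hn : f '' (U : Set G) ∈ 𝓝 (0 : H) :=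
      mem_of_superset (hnhds U) (closure_image_subset_image hc f hf hnhds U)
    refine mem_of_superset ((Continuous.tendsto' (by fun_prop) (f x) (0 : H) (sub_self _) :
      Tendsto (fun y => y - f x) (𝓝 (f x)) (𝓝 0)) hn) ?_
    rintro y ⟨z, hz, hzy⟩
    have := hU hz
    simp only [Set.mem_preimage, map_add] at this
    rwa [hzy, add_sub_cancel] at this

section Completion

variable {Q : Type v} [AddCommGroup Q] [UniformSpace Q] [IsUniformAddGroup Q]
  (q : G →+ Q) (hq : Continuous q)

omit [NonarchimedeanAddGroup G] in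
theorem completion_image_closure_subset (s : Set G) :
    q.completion hq '' closure (((↑) : G → Completion G) '' s) ⊆
      closure (((↑) : Q → Completion Q) '' (q '' s)) := by
  refine (image_closure_subset_closure_image (q.continuous_completion hq)).trans
    (closure_mono ?_)
  rintro _ ⟨_, ⟨m, hm, rfl⟩, rfl⟩
  exact ⟨q m, ⟨m, hm, rfl⟩, (q.completion_coe hq m).symm⟩

include hq in
/-- The kernel of the completion of an open map is the closure of the kernel. -/
theorem completion_ker (ho : IsOpenMap q) :
    (q.completion hq) ⁻¹' {0} = closure (((↑) : G → Completion G) '' (q ⁻¹' {0})) := by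
  refine subset_antisymm (fun x hx => mem_closure_iff_nhds.2 fun W hW => ?_) ?_
  · have hW0 : (fun z => x + z) ⁻¹' W ∈ 𝓝 (0 : Completion G) :=
      (Continuous.tendsto' (by fun_prop) (0 : Completion G) x (add_zero x)) hW
    obtain ⟨W', hW', hW'c, hW'W⟩ := exists_mem_nhds_isClosed_subset hW0
    obtain ⟨U, hU⟩ := NonarchimedeanAddGroup.is_nonarchimedean _
      ((Completion.continuous_coe G).continuousAt.preimage_mem_nhds (x := (0 : G))
        (by rwa [Completion.coe_zero]))
    let C : AddSubgroup (Completion G) :=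
      (U.toAddSubgroup.map (Completion.toCompl : G →+ Completion G)).topologicalClosure
    have hC : (C : Set (Completion G)) = closure (((↑) : G → Completion G) '' (U : Set G)) := rfl
    have hCn : (C : Set (Completion G)) ∈ 𝓝 (0 : Completion G) := by
      rw [hC, ← Completion.coe_zero]
      exact Completion.isDenseInducing_coe.closure_image_mem_nhds
        (U.isOpen.mem_nhds U.zero_mem)
    have hCW : (C : Set (Completion G)) ⊆ W' :=
      hC ▸ closure_minimal (Set.image_subset_iff.2 hU) hW'c
    obtain ⟨_, hm, m, rfl⟩ := mem_closure_iff_nhds.1 (Completion.denseRange_coe x) _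
      ((Continuous.tendsto' (by fun_prop) x (0 : Completion G) (sub_self x) :
        Tendsto (fun y : Completion G => x - y) (𝓝 x) (𝓝 0)) hCn)
    have hm' : x - (m : Completion G) ∈ C := hm
    have hqm : q m ∈ q '' (U : Set G) := by
      let qU : OpenAddSubgroup Q := ⟨U.toAddSubgroup.map q, ho _ U.isOpen⟩
      have hcl : closure (q '' (U : Set G)) = q '' (U : Set G) :=
        (OpenAddSubgroup.isClosed qU).closure_eq
      rw [← hcl, (Completion.isUniformInducing_coe Q).isInducing.closure_eq_preimage_closure_image]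
      have := completion_image_closure_subset q hq (U : Set G)
        ⟨_, (C.neg_mem hm' : -(x - (m : Completion G)) ∈ closure _), rfl⟩
      rwa [map_neg, map_sub, (hx : q.completion hq x = 0), zero_sub, neg_neg, q.completion_coe hq]
        at this
    obtain ⟨u, hu, hum⟩ := hqm
    refine ⟨((m - u : G) : Completion G), ?_, ⟨m - u, by simp [hum], rfl⟩⟩
    have h1 : -(x - (m : Completion G)) - (u : Completion G) ∈ C :=
      C.sub_mem (C.neg_mem hm') (subset_closure ⟨u, hu, rfl⟩)
    have := hW'W (hCW h1)
    simp only [Set.mem_preimage, neg_sub] at this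
    rw [Completion.coe_sub]
    convert this using 1
    abel
  · refine closure_minimal ?_ (isClosed_singleton.preimage (q.continuous_completion hq))
    rintro _ ⟨m, hm, rfl⟩
    change q.completion hq m = 0
    rw [q.completion_coe hq, (hm : q m = 0), Completion.coe_zero]

include hq in
theorem completion_surjective_isOpenMap (ho : IsOpenMap q) (hs : Function.Surjective q)
    (hc : (𝓝 (0 : G)).IsCountablyGenerated) :
    Function.Surjective (q.completion hq) ∧ IsOpenMap (q.completion hq) := by
  have hcG : (𝓝 (0 : Completion G)).IsCountablyGenerated := by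
    obtain ⟨V, hV⟩ := (𝓝 (0 : G)).exists_antitone_basis
    have := hV.toHasBasis.hasBasis_of_isDenseInducing (Completion.isDenseInducing_coe (α := G))
    rw [Completion.coe_zero] at this
    exact HasCountableBasis.isCountablyGenerated ⟨this, Set.to_countable _⟩
  refine surjective_isOpenMap hcG _ (q.continuous_completion hq) ?_ fun U => ?_
  · refine Completion.denseRange_coe.mono ?_
    rintro _ ⟨y, rfl⟩
    obtain ⟨m, rfl⟩ := hs y
    exact ⟨m, q.completion_coe hq m⟩
  · have hpre : ((↑) : G → Completion G) ⁻¹' (U : Set (Completion G)) ∈ 𝓝 (0 : G) :=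
      (U.isOpen.preimage (Completion.continuous_coe G)).mem_nhds (by
        simp only [Set.mem_preimage, Completion.coe_zero]; exact U.zero_mem)
    have h1 := ho.image_mem_nhds hpre
    rw [map_zero] at h1
    have h2 := (Completion.isDenseInducing_coe (α := Q)).closure_image_mem_nhds h1
    rw [Completion.coe_zero] at h2
    refine mem_of_superset h2 (closure_mono ?_)
    rintro _ ⟨_, ⟨m, hm, rfl⟩, rfl⟩
    exact ⟨m, hm, q.completion_coe hq m⟩

end Completion

end Groth.Agent.LinTopLib
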